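import Cfsg.Agent.Lib.Schur.McL.Data2
import Cfsg.Agent.Lib.Schur.TailsDensePerm
import Cfsg.Agent.Lib.Sporadic.OutCert.McL.Data

/-!
# Kernel checks of the certificate at 2
-/

set_option autoImplicit false
set_option maxRecDepth 100000
set_option maxHeartbeats 0

namespace CfsgLib.Schur.McL

open CfsgLib.Sporadic.OutCert

theorem slp2_ok : Tails.slpK 9 275 2 slpTab2 slpW2 = true ∧
    slpTab2.take 2 = [CfsgLib.Sporadic.OutCert.McL.ka, CfsgLib.Sporadic.OutCert.McL.kb] := by
  decide +kernel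

theorem pick2_ok : Tails.pickK 9 275 slpTab2 ids2 kk2 = true ∧
    Tails.pickK 9 275 slpTab2 gids2 gk2 = true := by decide +kernel

theorem cert2_eqs : cert2.eqsOK = true := by decide +kernel

theorem cert2_comb : cert2.combOK = true := by decide +kernel

theorem cert2_shape : cert2.shapeOK = true ∧ cert2.p = 2 ∧ ¬ 2 ∣ cert2.m ∧ cert2.b = 1 ∧
    ¬ 2 ^ (cert2.r + 1) ∣ 898128000 := by decide +kernel

theorem rels2_ok : Tails.relK 9 275 kk2 cert2 = true ∧ Tails.fusK 9 275 kk2 gk2 cert2 = true := by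
  decide +kernel

theorem all2_ok : Tails.chainK 9 275 kk2 all2 allW2 0 cert2.r (2 ^ cert2.r) = true := by
  decide +kernel

theorem inner2_ok : Tails.chainK 9 275 kk2 inner2 innerW2 cert2.a cert2.r
    (2 ^ (cert2.r - cert2.a)) = true := by decide +kernel

end CfsgLib.Schur.McL
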