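import Cfsg.Agent.Lib.Schur.McL.Data3
import Cfsg.Agent.Lib.Schur.TailsDensePerm
import Cfsg.Agent.Lib.Sporadic.OutCert.McL.Data

/-!
# Kernel checks of the certificate at 3
-/

set_option autoImplicit false
set_option maxRecDepth 100000
set_option maxHeartbeats 0

namespace CfsgLib.Schur.McL

open CfsgLib.Sporadic.OutCert

theorem slp3_ok : Tails.slpK 9 275 2 slpTab3 slpW3 = true ∧
    slpTab3.take 2 = [CfsgLib.Sporadic.OutCert.McL.ka, CfsgLib.Sporadic.OutCert.McL.kb] := by
  decide +kernel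

theorem pick3_ok : Tails.pickK 9 275 slpTab3 ids3 kk3 = true ∧
    Tails.pickK 9 275 slpTab3 gids3 gk3 = true := by decide +kernel

theorem cert3_eqs : cert3.eqsOK = true := by decide +kernel

theorem cert3_comb : cert3.combOK = true := by decide +kernel

theorem cert3_shape : cert3.shapeOK = true ∧ cert3.p = 3 ∧ ¬ 3 ∣ cert3.m ∧ cert3.b = 3 ∧
    ¬ 3 ^ (cert3.r + 1) ∣ 898128000 := by decide +kernel

theorem rels3_ok : Tails.relK 9 275 kk3 cert3 = true ∧ Tails.fusK 9 275 kk3 gk3 cert3 = true := by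
  decide +kernel

theorem all3_ok : Tails.chainK 9 275 kk3 all3 allW3 0 cert3.r (3 ^ cert3.r) = true := by
  decide +kernel

theorem inner3_ok : Tails.chainK 9 275 kk3 inner3 innerW3 cert3.a cert3.r
    (3 ^ (cert3.r - cert3.a)) = true := by decide +kernel

end CfsgLib.Schur.McL
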