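import Cfsg.Agent.Lib.Schur.McL.Data5
import Cfsg.Agent.Lib.Schur.TailsDensePerm
import Cfsg.Agent.Lib.Sporadic.OutCert.McL.Data

/-!
# Kernel checks of the certificate at 5
-/

set_option autoImplicit false
set_option maxRecDepth 100000
set_option maxHeartbeats 0

namespace CfsgLib.Schur.McL

open CfsgLib.Sporadic.OutCert

theorem slp5_ok : Tails.slpK 9 275 2 slpTab5 slpW5 = true ∧
    slpTab5.take 2 = [CfsgLib.Sporadic.OutCert.McL.ka, CfsgLib.Sporadic.OutCert.McL.kb] := by
  decide +kernel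

theorem pick5_ok : Tails.pickK 9 275 slpTab5 ids5 kk5 = true ∧
    Tails.pickK 9 275 slpTab5 gids5 gk5 = true := by decide +kernel

theorem cert5_eqs : cert5.eqsOK = true := by decide +kernel

theorem cert5_comb : cert5.combOK = true := by decide +kernel

theorem cert5_shape : cert5.shapeOK = true ∧ cert5.p = 5 ∧ ¬ 5 ∣ cert5.m ∧ cert5.b = 1 ∧
    ¬ 5 ^ (cert5.r + 1) ∣ 898128000 := by decide +kernel

theorem rels5_ok : Tails.relK 9 275 kk5 cert5 = true ∧ Tails.fusK 9 275 kk5 gk5 cert5 = true := by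
  decide +kernel

theorem all5_ok : Tails.chainK 9 275 kk5 all5 allW5 0 cert5.r (5 ^ cert5.r) = true := by
  decide +kernel

theorem inner5_ok : Tails.chainK 9 275 kk5 inner5 innerW5 cert5.a cert5.r
    (5 ^ (cert5.r - cert5.a)) = true := by decide +kernel

end CfsgLib.Schur.McL
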