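import Cfsg.Agent.Lib.Schur.McL.CoverCheck
import Cfsg.Agent.Lib.Schur.InducedComm
import Cfsg.Agent.Lib.Sporadic.OutCert.McL.Group

/-!
# The triple cover of the McLaughlin group, induced from the cover of a point stabiliser
-/

set_option autoImplicit false
set_option maxRecDepth 100000

namespace CfsgLib.Schur.McL

open CfsgLib.Sporadic.OutCert Subgroup CfsgLib.Schur.SzEight.Induced
open CfsgLib.Sporadic.OutCert.McL (H pA pB rep_A rep_B A_mem B_mem reach H_spec hw)

/-- The group on the points. -/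
abbrev G : Type := ↥H

/-- The group on the points of the tables of the cover. -/
noncomputable def toD : G →* Equiv.Perm (Fin cov.d) := H.subtype

theorem lt_d {x : ℕ} (h : x < cov.d) : x < 275 := h

theorem toD_apply (g : G) (x : Fin cov.d) :
    ((toD g x : Fin cov.d) : ℕ) = ((g : Equiv.Perm (Fin 275)) ⟨x, lt_d x.2⟩ : ℕ) := rfl

attribute [local irreducible] lk pkF allF compK oneK gK gW hK hI hS hW rIx hAIx hBIx preA preB cov
  CfsgLib.Sporadic.OutCert.McL.ka CfsgLib.Sporadic.OutCert.McL.kb toD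

instance neZero_q : NeZero cov.q := ⟨by decide +kernel⟩

theorem cov_N : cov.N = 162 := by decide +kernel

theorem N_pos : 0 < cov.N := by rw [cov_N]; norm_num

theorem gAt_spec : ∀ i, ∃ g : G, Rep 9 275 (gAt i) (g : Equiv.Perm (Fin 275)) := by
  refine Tails.exists_slp H.subtype hw (fun i hi => ?_) g_ok.1
  have e : gK[i]? = [CfsgLib.Sporadic.OutCert.McL.ka, CfsgLib.Sporadic.OutCert.McL.kb][i]? := by
    rw [← g_ok.2, List.getElem?_take_of_lt hi]
  rw [List.getD_eq_getElem?_getD, e]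
  rcases i with _ | _ | i
  · exact ⟨⟨pA, A_mem⟩, rep_A⟩
  · exact ⟨⟨pB, B_mem⟩, rep_B⟩
  · omega

/-- An element of the group by its place. -/
noncomputable def el (i : ℕ) : G := (gAt_spec i).choose

theorem rep_el (i : ℕ) : Rep 9 275 (gAt i) (el i : Equiv.Perm (Fin 275)) := (gAt_spec i).choose_spec

theorem exists_gen (m : Fin 2) : ∃ x : G × Equiv.Perm cov.Sheet,
    Rep 9 275 (hAt m) (x.1 : Equiv.Perm (Fin 275)) ∧ x.1 • (0 : Fin 275) = 0 ∧
      (toD x.1, x.2) ∈ cov.movers ∧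
      ∀ i : Fin cov.N, ((x.2 (i, 0)).1 : ℕ) = hImg m i ∧ (x.2 (i, 0)).2 = (hShf m i : ℕ) := by
  have h := allF_iff.1 cov_gens m m.2
  simp only [Bool.and_eq_true, Nat.beq_eq, allF_iff] at h
  obtain ⟨⟨⟨⟨⟨h1, h2⟩, h3⟩, h4⟩, h5⟩, h6⟩ := h
  have hr := rep_el (pqIx.getD m 0)
  rw [← h3] at hr
  obtain ⟨r, hr', hmv⟩ := cov.exists_lift cov_shape.1 (by decide +kernel) h1 h2
    (p := toD (el (pqIx.getD m 0))) (by
      intro x
      have hwd : cov.wd = 9 := by decide +kernel
      rw [hwd, toD_apply]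
      exact hr ⟨x, lt_d x.2⟩)
  refine ⟨(el (pqIx.getD m 0), cov.liftP r (cov.shF m)), h4.symm ▸ hr, ?_, hmv, fun i => ?_⟩
  · exact Fin.ext ((hr 0).symm.trans h5)
  · obtain ⟨e1, e2⟩ := h6 i (lt_of_lt_of_eq i.2 cov_N)
    refine ⟨(hr' i).symm.trans e1.symm, ?_⟩
    show (0 : ZMod cov.q) + cov.shF m i = _
    rw [zero_add, e2]
    rfl

/-- A generator of the cover of the stabiliser. -/
noncomputable def gen (m : Fin 2) : G × Equiv.Perm cov.Sheet := (exists_gen m).choose

/-- The cover of the stabiliser. -/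
noncomputable def X : Subgroup (G × Equiv.Perm cov.Sheet) := closure (Set.range gen)

/-- Its map to the group. -/
noncomputable def proj : X →* G := (MonoidHom.fst G (Equiv.Perm cov.Sheet)).comp X.subtype

theorem mem_movers (x : X) : (toD x.1.1, x.1.2) ∈ cov.movers := by
  have h : X ≤ cov.movers.comap (toD.prodMap (MonoidHom.id (Equiv.Perm cov.Sheet))) := by
    refine (closure_le _).2 ?_
    rintro _ ⟨m, rfl⟩
    exact (exists_gen m).choose_spec.2.2.1
  exact h x.2

theorem sheet (x : X) (i : Fin cov.N) (s : ZMod cov.q) :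
    x.1.2 (i, s) = ((x.1.2 (i, 0)).1, (x.1.2 (i, 0)).2 + s) := by
  obtain ⟨r, c, e, -⟩ := mem_movers x
  have e' : x.1.2 = cov.liftP r c := e
  rw [e']
  exact Prod.ext rfl (by show s + c i = 0 + c i + s; ring)

theorem ker_shift {z : X} (hz : z ∈ proj.ker) : ∃ a, z.1.2 = cov.shift a :=
  cov.exists_shift cov_shape.1 cov_shape.2 N_pos (mem_movers z)
    ((congrArg toD (MonoidHom.mem_ker.1 hz : z.1.1 = 1)).trans (map_one toD))

theorem ker_le : proj.ker ≤ center X := by
  intro z hz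
  rw [mem_center_iff]
  intro g
  obtain ⟨a, ha⟩ := ker_shift hz
  refine Subtype.ext (Prod.ext ?_ ?_)
  · show g.1.1 * z.1.1 = z.1.1 * g.1.1
    rw [show z.1.1 = 1 from MonoidHom.mem_ker.1 hz, one_mul, mul_one]
  · show g.1.2 * z.1.2 = z.1.2 * g.1.2
    rw [ha]
    exact (cov.shift_comm (mem_movers g) a).symm

/-- The sheet over the first subset. -/
noncomputable def sheetVal (x : X) : ZMod cov.q := (x.1.2 (⟨0, N_pos⟩, 0)).2

theorem sheetVal_shift {z : X} {a : ZMod cov.q} (h : z.1.2 = cov.shift a) : sheetVal z = a := by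
  rw [sheetVal, h]
  exact zero_add a

theorem sheetVal_mul {d : X} (hd : d ∈ proj.ker) (y : X) :
    sheetVal (d * y) = sheetVal d + sheetVal y := by
  obtain ⟨a, ha⟩ := ker_shift hd
  rw [sheetVal_shift ha, add_comm]
  show (d.1.2 (y.1.2 (⟨0, N_pos⟩, 0))).2 = _
  rw [ha]
  rfl

theorem card_ker_dvd : Nat.card proj.ker ∣ 3 := by
  let χ : proj.ker →* Multiplicative (ZMod cov.q) :=
    MonoidHom.mk' (fun z => Multiplicative.ofAdd (sheetVal z.1)) fun a b =>
      congrArg Multiplicative.ofAdd (sheetVal_mul a.2 b.1)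
  have h := card_dvd_of_injective χ ((injective_iff_map_eq_one χ).2 fun z hz => by
    obtain ⟨a, ha⟩ := ker_shift z.2
    have h0 : sheetVal z.1 = 0 := hz
    rw [sheetVal_shift ha] at h0
    rw [h0, cov.shift_zero] at ha
    exact Subtype.ext (Subtype.ext (Prod.ext (MonoidHom.mem_ker.1 z.2) ha)))
  have hq : cov.q = 3 := by decide +kernel
  rwa [Nat.card_congr Multiplicative.toAdd, Nat.card_zmod, hq] at h

/-- A lift of an element of the table of the stabiliser. -/
def IsLift (k : ℕ) (x : X) : Prop :=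
  Rep 9 275 (hAt k) (x.1.1 : Equiv.Perm (Fin 275)) ∧
    ∀ i : Fin cov.N, ((x.1.2 (i, 0)).1 : ℕ) = hImg k i ∧ (x.1.2 (i, 0)).2 = (hShf k i : ℕ)

theorem exists_lift : ∀ k, k < 2 + hW.length → ∃ x : X, IsLift k x := by
  intro k
  induction k using Nat.strong_induction_on with
  | _ k ih =>
    intro hk
    by_cases h2 : k < 2
    · exact ⟨⟨gen ⟨k, h2⟩, subset_closure ⟨_, rfl⟩⟩, (exists_gen ⟨k, h2⟩).choose_spec.1,
        (exists_gen ⟨k, h2⟩).choose_spec.2.2.2⟩
    have h := allF_iff.1 h_ok (k - 2) (by omega)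
    rw [Nat.add_sub_cancel' (Nat.le_of_not_lt h2)] at h
    generalize hW.getD (k - 2) [] = l at h
    rcases l with _ | ⟨x, _ | ⟨y, _ | ⟨z, t⟩⟩⟩
    · simp only [stepK, Bool.and_eq_true, Nat.beq_eq, allF_iff] at h
      refine ⟨1, by rw [h.1]; exact rep_one hw, fun i => ?_⟩
      obtain ⟨e1, e2⟩ := h.2 i (lt_of_lt_of_eq i.2 cov_N)
      rw [e1, e2, Nat.cast_zero]
      exact ⟨rfl, rfl⟩
    · simp [stepK] at h
    · simp only [stepK, Bool.and_eq_true, Nat.beq_eq, Nat.blt_eq, allF_iff] at h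
      obtain ⟨⟨⟨hx, hy⟩, hc⟩, ht⟩ := h
      obtain ⟨u, hu, hu'⟩ := ih x hx (hx.trans hk)
      obtain ⟨v, hv, hv'⟩ := ih y hy (hy.trans hk)
      refine ⟨u * v, by rw [hc]; exact rep_comp hw hu hv, fun i => ?_⟩
      obtain ⟨e1, e2⟩ := ht i (lt_of_lt_of_eq i.2 cov_N)
      obtain ⟨v1, v2⟩ := hv' i
      have hp : (u * v).1.2 (i, 0) = ((u.1.2 ((v.1.2 (i, 0)).1, 0)).1,
          (u.1.2 ((v.1.2 (i, 0)).1, 0)).2 + (v.1.2 (i, 0)).2) := sheet u _ _
      obtain ⟨u1, u2⟩ := hu' (v.1.2 (i, 0)).1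
      rw [hp, e1, e2, ← v1, u1, u2, v2]
      refine ⟨rfl, ?_⟩
      rw [← (show cov.q = 3 by decide +kernel), ZMod.natCast_mod, Nat.cast_add, add_comm]
    · simp [stepK] at h

theorem range_eq : proj.range = MulAction.stabilizer G (0 : Fin 275) := by
  have hle : proj.range ≤ MulAction.stabilizer G (0 : Fin 275) := by
    rintro _ ⟨x, rfl⟩
    have h : X ≤ (MulAction.stabilizer G (0 : Fin 275)).comap (MonoidHom.fst G (Equiv.Perm cov.Sheet)) := by
      refine (closure_le _).2 ?_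
      rintro _ ⟨m, rfl⟩
      exact (exists_gen m).choose_spec.2.1
    exact h x.2
  refine eq_of_le_of_card_ge hle ?_
  have hstab : Nat.card (MulAction.stabilizer G (0 : Fin 275)) = 3265920 := by
    have horb : MulAction.orbit G (0 : Fin 275) = Set.univ := by
      refine Set.eq_univ_of_forall fun i => ?_
      obtain ⟨g, hg, e⟩ := reach i
      exact ⟨⟨g, hg⟩, e⟩
    have h := (MulAction.stabilizer G (0 : Fin 275)).index_mul_card
    rw [MulAction.index_stabilizer, horb, Set.ncard_univ, Nat.card_fin, H_spec.2] at h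
    omega
  rw [hstab, ← card_map_of_injective H.subtype_injective, ← levs_ok.2.2.2]
  refine card_ge_levels levs _ levs_ok.1 fun L hL g hg => ?_
  obtain ⟨j, hj, rfl⟩ := List.getElem_of_mem hL
  have hlen : levs.length = levW.length := by
    simpa using congrArg List.length levs_ok.2.1
  have hg' : g ∈ (levW[j]'(hlen ▸ hj)).map (fun w => hAt (w.getD 0 0)) := by
    have e := List.getElem_of_eq levs_ok.2.1 (by simpa using hj)
    simp only [List.getElem_map] at e
    rwa [← e]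
  obtain ⟨w, hwm, rfl⟩ := List.mem_map.1 hg'
  have hb := List.all_eq_true.1 (List.all_eq_true.1 levs_ok.2.2.1 _ (List.getElem_mem (hlen ▸ hj))) w hwm
  simp only [Nat.blt_eq] at hb
  obtain ⟨x, hx⟩ := exists_lift _ hb
  exact ⟨_, ⟨_, ⟨x, rfl⟩, rfl⟩, hx.1⟩

/-- The transversal. -/
noncomputable def r (i : Fin 275) : G := el (rIx.getD i 0)

theorem r_spec (i : Fin 275) : r i • (0 : Fin 275) = i := by
  have h := allF_iff.1 coord_ok i i.2
  simp only [Bool.and_eq_true, Nat.beq_eq] at h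
  exact Fin.ext ((rep_el _ 0).symm.trans h.1.1)

theorem hrange (g : G) (i : Fin 275) : (r (g • i))⁻¹ * g * r i ∈ proj.range := by
  rw [range_eq, MulAction.mem_stabilizer_iff, mul_smul, mul_smul, r_spec, inv_smul_eq_iff, r_spec]

theorem exists_coord (m : ℕ) (hIx pre : List ℕ) (h : ∀ i < 275, coordK m hIx pre i = true) :
    ∃ a : sub proj r, a.1.right = el m ∧ ∀ i : Fin 275,
      IsLift (hIx.getD i 0) (a.1.left i) ∧ ((a.1.right⁻¹ • i : Fin 275) : ℕ) = pre.getD i 0 := by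
  have h' : ∀ i : Fin 275, ∃ x : X, IsLift (hIx.getD i 0) x ∧ ∃ hp : pre.getD i 0 < 275,
      el m • (⟨pre.getD i 0, hp⟩ : Fin 275) = i ∧ r i * proj x = el m * r ⟨pre.getD i 0, hp⟩ := by
    intro i
    have hc := h i i.2
    simp only [coordK, Bool.and_eq_true, Nat.beq_eq, Nat.blt_eq] at hc
    obtain ⟨⟨⟨hl, hp⟩, he⟩, hq⟩ := hc
    obtain ⟨x, hx⟩ := exists_lift _ hl
    refine ⟨x, hx, hp, Fin.ext ((rep_el m _).symm.trans he), ?_⟩
    have h1 := rep_comp hw (rep_el (rIx.getD i 0)) hx.1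
    rw [hq] at h1
    exact Subtype.ext (h1.inj (rep_comp hw (rep_el m) (rep_el (rIx.getD (pre.getD i 0) 0))))
  choose f hf hp hmove heq using h'
  refine ⟨⟨⟨f, el m⟩, fun i => ?_⟩, rfl, fun i => ⟨hf i, ?_⟩⟩
  · show proj (f (el m • i)) = _
    have e : i = (⟨_, hp (el m • i)⟩ : Fin 275) := MulAction.injective (el m) (hmove (el m • i)).symm
    have h2 := heq (el m • i)
    rw [← e] at h2
    rw [mul_assoc]
    exact eq_inv_mul_of_mul_eq h2
  · show (((el m)⁻¹ • i : Fin 275) : ℕ) = _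
    rw [inv_smul_eq_iff.2 (hmove i).symm]

theorem sub_eq (x y : ZMod cov.q) : x - y = x + 2 * y := by
  have hq : cov.q = 3 := by decide +kernel
  have key : ∀ n : ℕ, n = 3 → ∀ x y : ZMod n, x - y = x + 2 * y := by
    rintro n rfl; decide
  exact key _ hq x y

theorem val_prod {a b : sub proj r} {u v : List ℕ} {i j : Fin 275}
    (ha : IsLift (u.getD i 0) (a.1.left i)) (hb : IsLift (v.getD j 0) (b.1.left j))
    (hj : a.1.right⁻¹ • i = j) :
    sheetVal ((a * b).1.left i) = (evS (u.getD i 0) (v.getD j 0) : ℕ) := by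
  show sheetVal ((a.1 * b.1).left i) = _
  rw [SemidirectProduct.mul_left, Pi.mul_apply, act_apply, hj, evS, Nat.cast_add]
  obtain ⟨v1, v2⟩ := hb.2 ⟨0, N_pos⟩
  obtain ⟨-, u2⟩ := ha.2 ((b.1.left j).1.2 (⟨0, N_pos⟩, 0)).1
  rw [v1] at u2
  have e := congrArg Prod.snd
    (sheet (a.1.left i) ((b.1.left j).1.2 (⟨0, N_pos⟩, 0)).1 ((b.1.left j).1.2 (⟨0, N_pos⟩, 0)).2)
  refine e.trans ?_
  rw [u2, v2]

/-- A stem extension with kernel of order three. -/
theorem exists_cover : ∃ (Γ : Type) (_ : Group Γ) (_ : Finite Γ) (σ : Γ →* G),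
    Cfsg.IsStemExtension σ ∧ Nat.card σ.ker = 3 ∧ IsCyclic σ.ker := by
  have hc : ∀ i < 275, coordK (abIx.getD 0 0) hAIx preA i = true ∧
      coordK (abIx.getD 1 0) hBIx preB i = true := fun i hi => by
    have h := allF_iff.1 coord_ok i hi
    simp only [Bool.and_eq_true] at h
    exact ⟨h.1.2, h.2⟩
  obtain ⟨a, har, ha⟩ := exists_coord _ hAIx preA fun i hi => (hc i hi).1
  obtain ⟨b, hbr, hb⟩ := exists_coord _ hBIx preB fun i hi => (hc i hi).2
  refine InducedComm.exists_stem proj r ker_le sheetVal (fun d hd y => sheetVal_mul hd y) hrange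
    Nat.prime_three card_ker_dvd a b ?_ ?_
  · show a.1.right * b.1.right = b.1.right * a.1.right
    rw [har, hbr]
    refine Subtype.ext (Rep.inj (w := 9) (rep_comp hw (rep_el _) (rep_el _)) ?_)
    rw [ab_comm]
    exact rep_comp hw (rep_el _) (rep_el _)
  · have e : ∀ i : Fin 275, sheetVal ((a * b).1.left i) - sheetVal ((b * a).1.left i) =
        ((dK i : ℕ) : ZMod cov.q) := by
      intro i
      rw [val_prod (ha i).1 (hb _).1 rfl, val_prod (hb i).1 (ha _).1 rfl, (ha i).2, (hb i).2, sub_eq, dK,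
        Nat.cast_add, Nat.cast_mul, Nat.cast_ofNat]
    rw [Finset.sum_congr rfl fun i _ => e i, ← Nat.cast_sum, Ne, ZMod.natCast_eq_zero_iff,
      Fin.sum_univ_eq_sum_range dK 275, show cov.q = 3 by decide +kernel, Nat.dvd_iff_mod_eq_zero]
    exact total_ok

end CfsgLib.Schur.McL
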