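import Cfsg.Agent.Lib.Schur.McL.CoverData
import Cfsg.Agent.Lib.Schur.McL.InducedData
import Cfsg.Agent.Lib.Schur.TailsSLP
import Cfsg.Agent.Lib.Sporadic.OutCert.McL.Data

/-!
# Kernel checks of the tables for the induced triple cover of the McLaughlin group
-/

set_option autoImplicit false
set_option maxRecDepth 100000
set_option maxHeartbeats 0
set_option Elab.async false

namespace CfsgLib.Schur.McL

open CfsgLib.Sporadic.OutCert

/-- An element of the group by its place. -/
noncomputable def gAt (i : ℕ) : ℕ := gK.getD i (oneK 9 275)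

/-- An element of the stabiliser by its place. -/
noncomputable def hAt (k : ℕ) : ℕ := hK.getD k 0

/-- The image of a point of the cover under an element of the stabiliser. -/
noncomputable def hImg (k i : ℕ) : ℕ := lk 11 (hI.getD k 0) i

/-- The shift at a point of the cover. -/
noncomputable def hShf (k i : ℕ) : ℕ := lk 2 (hS.getD k 0) i

/-- A row of the table of the stabiliser is the product that its word says. -/
noncomputable def stepK (k : ℕ) : List ℕ → Bool
  | [] => Nat.beq (hAt k) (oneK 9 275) && allF (fun i => Nat.beq (hImg k i) i && Nat.beq (hShf k i) 0) 162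
  | [x, y] => Nat.blt x k && Nat.blt y k && Nat.beq (hAt k) (compK 9 275 (hAt x) (hAt y)) &&
      allF (fun i => Nat.beq (hImg k i) (hImg x (hImg y i)) &&
        Nat.beq (hShf k i) ((hShf y i + hShf x (hImg y i)) % 3)) 162
  | _ => false

/-- The lifts of an element of the transversal times the element `m`. -/
noncomputable def coordK (m : ℕ) (hIx pre : List ℕ) (i : ℕ) : Bool :=
  Nat.blt (hIx.getD i 0) (2 + hW.length) && Nat.blt (pre.getD i 0) 275 &&
    Nat.beq (lk 9 (gAt m) (pre.getD i 0)) i &&
    Nat.beq (compK 9 275 (gAt (rIx.getD i 0)) (hAt (hIx.getD i 0)))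
      (compK 9 275 (gAt m) (gAt (rIx.getD (pre.getD i 0) 0)))

/-- The shift of a product of two lifts at the first sheet. -/
noncomputable def evS (x y : ℕ) : ℕ := hShf x (hImg y 0) + hShf y 0

/-- The coordinate of the commutator of the two lifts. -/
noncomputable def dK (i : ℕ) : ℕ :=
  evS (hAIx.getD i 0) (hBIx.getD (preA.getD i 0) 0) + 2 * evS (hBIx.getD i 0) (hAIx.getD (preB.getD i 0) 0)

theorem g_ok : Tails.slpK 9 275 2 gK gW = true ∧
    gK.take 2 = [CfsgLib.Sporadic.OutCert.McL.ka, CfsgLib.Sporadic.OutCert.McL.kb] := by decide +kernel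

theorem cov_shape : cov.shapeK = true ∧ cov.treeK = true := by decide +kernel

theorem cov_gens : allF (fun m => cov.memK m && cov.goodK m &&
    Nat.beq (cov.base.getD m 0) (gAt (pqIx.getD m 0)) && Nat.beq (hAt m) (cov.base.getD m 0) &&
    Nat.beq (lk 9 (cov.base.getD m 0) 0) 0 &&
    allF (fun i => Nat.beq (hImg m i) (cov.imN m i) && Nat.beq (hShf m i) (cov.shN m i)) 162) 2 = true := by
  decide +kernel

theorem h_ok : allF (fun k => stepK (2 + k) (hW.getD k [])) hW.length = true := by decide +kernel

theorem levs_ok : levelsK 9 275 levs = true ∧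
    levs.map (fun L => L.gens) = levW.map (fun ws => ws.map fun w => hAt (w.getD 0 0)) ∧
    (levW.all fun ws => ws.all fun w => Nat.blt (w.getD 0 0) (2 + hW.length)) = true ∧
    (levs.map fun L => L.orb.length + 1).prod = 3265920 := by decide +kernel

theorem coord_ok : allF (fun i => Nat.beq (lk 9 (gAt (rIx.getD i 0)) 0) i &&
    coordK (abIx.getD 0 0) hAIx preA i && coordK (abIx.getD 1 0) hBIx preB i) 275 = true := by
  decide +kernel

theorem ab_comm : compK 9 275 (gAt (abIx.getD 0 0)) (gAt (abIx.getD 1 0)) =
    compK 9 275 (gAt (abIx.getD 1 0)) (gAt (abIx.getD 0 0)) := by decide +kernel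

theorem total_ok : ((List.range 275).map dK).sum % 3 ≠ 0 := by decide +kernel

end CfsgLib.Schur.McL
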