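import Cfsg.Agent.Lib.Schur.McL.Cover
import Cfsg.Agent.Lib.Schur.McL.Check2
import Cfsg.Agent.Lib.Schur.McL.Check3
import Cfsg.Agent.Lib.Schur.McL.Check5
import Cfsg.Agent.Lib.Schur.TailsCombine

/-!
# The multiplier of the McLaughlin group has order three
-/

set_option autoImplicit false
set_option maxRecDepth 100000

namespace CfsgLib.Schur.McL

open CfsgLib.Sporadic.OutCert
open CfsgLib.Sporadic.OutCert.McL (H pA pB rep_A rep_B A_mem B_mem H_spec hw wp wp_mem orderOf_wp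
  orderOf_A e7W elems ka kb)

attribute [local irreducible] lk pkF allF compK oneK slpTab2 slpTab3 slpTab5 kk2 kk3 kk5 gk2 gk3 gk5
  CfsgLib.Sporadic.OutCert.McL.ka CfsgLib.Sporadic.OutCert.McL.kb

universe u

theorem base_mem {tab : List ℕ} (h : tab.take 2 = [ka, kb]) :
    ∀ i < 2, ∃ g : G, Rep 9 275 (tab.getD i (oneK 9 275)) (g : Equiv.Perm (Fin 275)) := by
  intro i hi
  have e : tab[i]? = [ka, kb][i]? := by rw [← h, List.getElem?_take_of_lt hi]
  rw [List.getD_eq_getElem?_getD, e]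
  rcases i with _ | _ | i
  · exact ⟨⟨pA, A_mem⟩, rep_A⟩
  · exact ⟨⟨pB, B_mem⟩, rep_B⟩
  · omega

theorem card_G : Nat.card G = 898128000 := H_spec.2

theorem bound {D : Tails.Cert} {tab kk gk ids gids : List ℕ} {ws : List (List ℕ)}
    {lv lvin : List Level} {lw lwin : List (List (List ℕ))} {p b : ℕ} [Fact p.Prime]
    (hslp : Tails.slpK 9 275 2 tab ws = true ∧ tab.take 2 = [ka, kb])
    (hpick : Tails.pickK 9 275 tab ids kk = true ∧ Tails.pickK 9 275 tab gids gk = true)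
    (he : D.eqsOK = true) (hco : D.combOK = true)
    (hs : D.shapeOK = true ∧ D.p = p ∧ ¬ p ∣ D.m ∧ D.b = b ∧ ¬ p ^ (D.r + 1) ∣ 898128000)
    (hr : Tails.relK 9 275 kk D = true ∧ Tails.fusK 9 275 kk gk D = true)
    (ha : Tails.chainK 9 275 kk lv lw 0 D.r (p ^ D.r) = true)
    (hi : Tails.chainK 9 275 kk lvin lwin D.a D.r (p ^ (D.r - D.a)) = true)
    (Γ : Type u) [Group Γ] [Finite Γ] (σ : Γ →* G) (hσ : Cfsg.IsStemExtension σ) :
    (Nat.card σ.ker).factorization p ≤ b.factorization p := by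
  have hψ : Function.Injective H.subtype := H.subtype_injective
  have hsl := Tails.exists_slp H.subtype hw (base_mem hslp.2) hslp.1
  choose y hy using Tails.exists_pick H.subtype hw hsl hpick.1
  choose g hg using Tails.exists_pick H.subtype hw hsl hpick.2
  obtain ⟨hsh, hDp, hm, hb, hQ⟩ := hs
  have := Tails.factorization_card_ker_le D he hco hsh hDp hm y
    (Tails.rel_of_check H.subtype hψ hw hy hr.1) g
    (Tails.fus_of_check H.subtype hψ hw hy hg hr.2)
    (Tails.card_tailGen_ge_of_chain H.subtype hw hy hψ ha)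
    (Tails.card_tailGen_ge_of_chain H.subtype hw hy hψ hi) (card_G ▸ hQ) Γ σ hσ
  rwa [hb] at this

theorem card_ker_le (Γ : Type) [Group Γ] [Finite Γ] (σ : Γ →* G) (hσ : Cfsg.IsStemExtension σ) :
    Nat.card σ.ker ≤ 3 := by
  refine Tails.card_ker_le σ hσ (by norm_num) fun p hp hd => ?_
  rw [card_G] at hd
  have hp' : p = 2 ∨ p = 3 ∨ p = 5 ∨ p = 7 ∨ p = 11 := by
    have h1 : p ∣ 2 ^ 7 * 3 ^ 6 * 5 ^ 3 * 7 * 11 := hd
    have q : ∀ r : ℕ, r.Prime → p ∣ r → p = r := fun r hr h => (Nat.prime_dvd_prime_iff_eq hp hr).1 h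
    simp only [Nat.Prime.dvd_mul hp] at h1
    rcases h1 with (((h1 | h1) | h1) | h1) | h1
    · exact Or.inl (q 2 Nat.prime_two (hp.dvd_of_dvd_pow h1))
    · exact Or.inr (Or.inl (q 3 Nat.prime_three (hp.dvd_of_dvd_pow h1)))
    · exact Or.inr (Or.inr (Or.inl (q 5 Nat.prime_five (hp.dvd_of_dvd_pow h1))))
    · exact Or.inr (Or.inr (Or.inr (Or.inl (q 7 (by norm_num) h1))))
    · exact Or.inr (Or.inr (Or.inr (Or.inr (q 11 (by norm_num) h1))))
  haveI := Fact.mk hp
  have hcyc : (∃ g : G, orderOf g = p) → ¬ p ^ 2 ∣ 898128000 →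
      (Nat.card σ.ker).factorization p ≤ (3 : ℕ).factorization p := fun ⟨g, hg⟩ h2 => by
    rw [Tails.factorization_card_ker_of_orderOf σ hσ g (k := 1) (by rw [hg, pow_one]) (by rwa [card_G])]
    exact Nat.zero_le _
  rcases hp' with rfl | rfl | rfl | rfl | rfl
  · exact (bound slp2_ok pick2_ok cert2_eqs cert2_comb cert2_shape rels2_ok all2_ok inner2_ok Γ σ hσ).trans
      (by simp)
  · exact bound slp3_ok pick3_ok cert3_eqs cert3_comb cert3_shape rels3_ok all3_ok inner3_ok Γ σ hσ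
  · exact (bound slp5_ok pick5_ok cert5_eqs cert5_comb cert5_shape rels5_ok all5_ok inner5_ok Γ σ hσ).trans
      (by simp)
  · refine hcyc ⟨⟨wp e7W, wp_mem _⟩, ?_⟩ (by norm_num)
    rw [← orderOf_injective H.subtype H.subtype_injective, Subgroup.subtype_apply]
    exact orderOf_wp elems.2.2.2.2.2.2.1 elems.2.2.2.2.2.2.2.1
  · refine hcyc ⟨⟨pA, A_mem⟩, ?_⟩ (by norm_num)
    rw [← orderOf_injective H.subtype H.subtype_injective, Subgroup.subtype_apply]
    exact orderOf_A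

theorem hasMultiplier_G : Cfsg.HasCyclicSchurMultiplier G 3 := by
  obtain ⟨Γ, _, _, σ, hσ, hk, hc⟩ := exists_cover
  haveI := hc
  refine Basic.hasSchurMultiplier_of_le σ hσ (mulEquivOfCyclicCardEq (by rw [hk]; simp)) fun Δ _ _ τ hτ => ?_
  rw [show Nat.card (Multiplicative (ZMod 3)) = 3 by simp]
  exact card_ker_le Δ τ hτ

theorem hasMultiplier : Cfsg.HasCyclicSchurMultiplier ↥Cfsg.Spor.McL 3 := by
  obtain ⟨e⟩ := H_spec.1
  exact Basic.hasSchurMultiplier_of_mulEquiv e.symm hasMultiplier_G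

end CfsgLib.Schur.McL
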